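import Groth.Prelude.Def_CurvBase
import Mathlib.AlgebraicGeometry.IdealSheaf.Basic
import Mathlib.AlgebraicGeometry.Noetherian
import Mathlib.RingTheory.Ideal.KrullsHeightTheorem

/-!
Points maximal under generisation in a closed subscheme, read in an affine chart.
-/

universe u

open CategoryTheory AlgebraicGeometry

namespace GrothLib.DivPts

variable {X : Scheme.{u}} {U : X.Opens} (hU : IsAffineOpen U) {x : X} (hx : x ∈ U)

theorem le_primeIdealOf_iff (D : X.IdealSheafData) (q : PrimeSpectrum Γ(X, U)) :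
    D.ideal ⟨U, hU⟩ ≤ q.asIdeal ↔ hU.fromSpec q ∈ D.support := by
  have hq : hU.fromSpec q ∈ U := by
    show _ ∈ (U : Set X)
    rw [← hU.range_fromSpec]
    exact ⟨q, rfl⟩
  rw [Scheme.IdealSheafData.mem_support_iff_of_mem (U := ⟨U, hU⟩) hq]
  have h := Set.ext_iff.mp (hU.fromSpec_preimage_zeroLocus (D.ideal ⟨U, hU⟩ : Set Γ(X, U))) q
  exact h.symm

theorem mem_support_iff (D : X.IdealSheafData) :
    x ∈ D.support ↔ D.ideal ⟨U, hU⟩ ≤ (hU.primeIdealOf ⟨x, hx⟩).asIdeal := by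
  rw [le_primeIdealOf_iff, hU.fromSpec_primeIdealOf]

theorem fromSpec_specializes_of_le {q : PrimeSpectrum Γ(X, U)}
    (h : q.asIdeal ≤ (hU.primeIdealOf ⟨x, hx⟩).asIdeal) : hU.fromSpec q ⤳ x := by
  have := ((PrimeSpectrum.le_iff_specializes q (hU.primeIdealOf ⟨x, hx⟩)).mp h).map hU.fromSpec.continuous
  rwa [hU.fromSpec_primeIdealOf] at this

/-- A point of `D` maximal under generisation gives a minimal prime over the ideal of `D`. -/
theorem primeIdealOf_mem_minimalPrimes (D : X.IdealSheafData) (hξ : x ∈ D.support)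
    (hgen : ∀ y ∈ (D.support : Set X), y ⤳ x → y = x) :
    (hU.primeIdealOf ⟨x, hx⟩).asIdeal ∈ (D.ideal ⟨U, hU⟩).minimalPrimes := by
  refine ⟨⟨(hU.primeIdealOf ⟨x, hx⟩).isPrime, (mem_support_iff hU hx D).mp hξ⟩, fun q hq hle => ?_⟩
  have he := hgen _ ((le_primeIdealOf_iff hU D ⟨q, hq.1⟩).mp hq.2) (fromSpec_specializes_of_le hU hx (q := ⟨q, hq.1⟩) hle)
  have : (⟨q, hq.1⟩ : PrimeSpectrum Γ(X, U)) = hU.primeIdealOf ⟨x, hx⟩ :=
    hU.fromSpec.isOpenEmbedding.injective (he.trans (hU.fromSpec_primeIdealOf ⟨x, hx⟩).symm)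
  exact (congrArg PrimeSpectrum.asIdeal this).ge

include hU hx in
theorem ringKrullDim_stalk_eq_height :
    ringKrullDim (X.presheaf.stalk x) = (hU.primeIdealOf ⟨x, hx⟩).asIdeal.height := by
  let _ := TopCat.Presheaf.algebra_section_stalk X.presheaf (U := U) ⟨x, hx⟩
  have := hU.isLocalization_stalk ⟨x, hx⟩
  exact IsLocalization.AtPrime.ringKrullDim_eq_height (hU.primeIdealOf ⟨x, hx⟩).asIdeal _

include hx in
/-- At a maximal point of a locally principal subscheme the local ring has dimension at most one. -/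
theorem ringKrullDim_stalk_le_one [IsLocallyNoetherian X] (D : X.IdealSheafData) (hξ : x ∈ D.support)
    (hgen : ∀ y ∈ (D.support : Set X), y ⤳ x → y = x) {f : Γ(X, U)}
    (hf : D.ideal ⟨U, hU⟩ = Ideal.span {f}) : ringKrullDim (X.presheaf.stalk x) ≤ 1 := by
  rw [ringKrullDim_stalk_eq_height hU hx]
  have : IsNoetherianRing Γ(X, U) := IsLocallyNoetherian.component_noetherian ⟨U, hU⟩
  have h := Ideal.height_le_one_of_isPrincipal_of_mem_minimalPrimes (Ideal.span {f})
    (hU.primeIdealOf ⟨x, hx⟩).asIdeal (hf ▸ primeIdealOf_mem_minimalPrimes hU hx D hξ hgen)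
  exact_mod_cast h

theorem one_le_ringKrullDim_stalk {f : Γ(X, U)} (hf : f ∈ nonZeroDivisors Γ(X, U))
    (hfx : f ∈ (hU.primeIdealOf ⟨x, hx⟩).asIdeal) : 1 ≤ ringKrullDim (X.presheaf.stalk x) := by
  rw [ringKrullDim_stalk_eq_height hU hx]
  have hne : (hU.primeIdealOf ⟨x, hx⟩).asIdeal.height ≠ 0 := fun h => by
    have hmin := Ideal.height_eq_zero_iff.mp h
    exact Set.disjoint_left.mp (Ideal.disjoint_nonZeroDivisors_of_mem_minimalPrimes hmin) hfx hf
  exact_mod_cast Order.one_le_iff_pos.mpr (pos_iff_ne_zero.mpr hne)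

end GrothLib.DivPts
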